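import Groth.Agent.KFlat.Skyscraper
import Groth.Agent.QC.Localisation
import Groth.Prelude.Def_DCoh2
import Groth.Prelude.Def_MeroDiv
import Mathlib

/-!
The point sheaf `κ(x)` at a closed point as a skyscraper module.
-/

set_option autoImplicit false
set_option linter.style.haveILetI false
set_option backward.isDefEq.respectTransparency false
set_option backward.isDefEq.respectTransparency.types false

universe u

open CategoryTheory CategoryTheory.Limits AlgebraicGeometry TopologicalSpace Opposite
open Groth.Agent.KFlat (pgerm)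

namespace Groth.Agent.DPtSky

variable {X : Scheme.{u}} (x : X)

/-- the point sheaf at `x` -/
noncomputable abbrev ptSheaf : X.Modules :=
  (Coh.push (X.fromSpecResidueField x)).obj (Coh.structureModule _)

lemma preimage_eq_top {V : X.Opens} (hV : x ∈ V) :
    X.fromSpecResidueField x ⁻¹ᵁ V = ⊤ := by
  refine eq_top_iff.2 fun s _ => ?_
  show X.fromSpecResidueField x s ∈ V
  rw [Scheme.fromSpecResidueField_apply]
  exact hV

lemma preimage_eq_bot {V : X.Opens} (hV : x ∉ V) :
    X.fromSpecResidueField x ⁻¹ᵁ V = ⊥ := by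
  refine eq_bot_iff.2 fun s hs => ?_
  have h : X.fromSpecResidueField x s ∈ V := hs
  rw [Scheme.fromSpecResidueField_apply] at h
  exact absurd h hV

lemma bijective_res {V W : X.Opens} (h : W ≤ V) (hW : x ∈ W) :
    Function.Bijective ((ptSheaf x).presheaf.map (homOfLE h).op) := by
  let i := (TopologicalSpace.Opens.map (X.fromSpecResidueField x).base).map (homOfLE h)
  haveI : IsIso i := ⟨⟨homOfLE ((preimage_eq_top x (h hW)).trans (preimage_eq_top x hW).symm).le,
    Subsingleton.elim _ _, Subsingleton.elim _ _⟩⟩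
  haveI : IsIso ((Coh.structureModule (Spec (X.residueField x))).presheaf.map i.op) := inferInstance
  exact ConcreteCategory.bijective_of_isIso ((Coh.structureModule (Spec (X.residueField x))).presheaf.map i.op)

lemma bijective_germ {V : X.Opens} (hV : x ∈ V) :
    Function.Bijective ((ptSheaf x).presheaf.germ V x hV) := by
  refine ⟨fun a b hab => ?_, fun z => ?_⟩
  · obtain ⟨W, hW, i, j, he⟩ := TopCat.Presheaf.germ_eq _ x hV hV a b hab
    exact (bijective_res x i.le hW).1 he
  · obtain ⟨W, hW, a, rfl⟩ := TopCat.Presheaf.exists_germ_eq (ptSheaf x).presheaf z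
    obtain ⟨b, hb⟩ := (bijective_res x (inf_le_left : V ⊓ W ≤ V) ⟨hV, hW⟩).2
      ((ptSheaf x).presheaf.map (homOfLE (inf_le_right : V ⊓ W ≤ W)).op a)
    refine ⟨b, ?_⟩
    have := congrArg ((ptSheaf x).presheaf.germ (V ⊓ W) x ⟨hV, hW⟩) hb
    rwa [TopCat.Presheaf.germ_res_apply, TopCat.Presheaf.germ_res_apply] at this

lemma subsingleton_sections {V : X.Opens} (hV : x ∉ V) : Subsingleton Γ(ptSheaf x, V) := by
  have h := (Scheme.Modules.isSheaf (Coh.structureModule (Spec (X.residueField x))))
  have : Subsingleton Γ(Coh.structureModule (Spec (X.residueField x)), (⊥ : (Spec (X.residueField x)).Opens)) :=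
    AddCommGrpCat.subsingleton_of_isZero (TopCat.Sheaf.isTerminalOfEmpty
      (⟨_, h⟩ : TopCat.Sheaf AddCommGrpCat.{u} _)).isZero
  rw [← preimage_eq_bot x hV] at this
  exact this

theorem isIso_unit : IsIso ((Groth.Agent.KFlat.skyAdjunction x).unit.app (ptSheaf x)) := by
  rw [Scheme.Modules.Hom.isIso_iff_isIso_app]
  intro V
  rw [ConcreteCategory.isIso_iff_bijective]
  constructor
  · intro a b hab
    by_cases hV : x ∈ V
    · exact (bijective_germ x hV).1 (congrFun hab ⟨hV⟩)
    · exact @Subsingleton.elim _ (subsingleton_sections x hV) a b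
  · intro g
    by_cases hV : x ∈ V
    · obtain ⟨a, ha⟩ := (bijective_germ x hV).2 (g ⟨hV⟩)
      exact ⟨a, funext fun h => ha.trans (congrArg g (Subsingleton.elim _ h))⟩
    · exact ⟨0, funext fun h => absurd h.down hV⟩

theorem smul_eq_zero_of_mem {r : X.presheaf.stalk x}
    (hr : r ∈ IsLocalRing.maximalIdeal (X.presheaf.stalk x)) (z : (ptSheaf x).presheaf.stalk x) :
    r • z = 0 := by
  obtain ⟨V, hV, a, rfl⟩ := TopCat.Presheaf.exists_germ_eq X.presheaf r
  obtain ⟨b, rfl⟩ := (bijective_germ x hV).2 z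
  rw [← Mero.germ_smul]
  have h0 : (X.fromSpecResidueField x).app V a = 0 := by
    have hb : (Spec (X.residueField x)).basicOpen ((X.fromSpecResidueField x).app V a) = ⊥ := by
      rw [← Scheme.preimage_basicOpen]
      refine preimage_eq_bot x fun h => ?_
      rw [Scheme.mem_basicOpen _ a x hV] at h
      exact hr h
    rw [basicOpen_eq_bot_iff] at hb
    exact hb
  have : a • b = 0 := by
    let c : Γ(Spec (X.residueField x), X.fromSpecResidueField x ⁻¹ᵁ V) := b
    show (HMul.hMul (α := Γ(Spec (X.residueField x), X.fromSpecResidueField x ⁻¹ᵁ V))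
      ((X.fromSpecResidueField x).app V a) c : Γ(Spec (X.residueField x), X.fromSpecResidueField x ⁻¹ᵁ V)) = 0
    rw [h0, zero_mul]
  rw [this, map_zero]

theorem exists_ne_zero : ∃ z : (ptSheaf x).presheaf.stalk x, z ≠ 0 := by
  refine ⟨(ptSheaf x).presheaf.germ ⊤ x trivial (1 : Γ(Spec (X.residueField x), ⊤)), fun h => ?_⟩
  have h1 : (1 : Γ(Spec (X.residueField x), ⊤)) = 0 :=
    (bijective_germ x (show x ∈ (⊤ : X.Opens) from trivial)).1 (h.trans (map_zero _).symm)
  exact one_ne_zero h1

end Groth.Agent.DPtSky
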