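import Mathlib

/-!
Maps from a finite module over a local ring to a module killed by the maximal ideal.
-/

set_option autoImplicit false
universe u

open IsLocalRing

namespace Groth.Agent.DPtSky

theorem exists_hom_ne_zero {R : Type u} [CommRing R] [IsLocalRing R] {H M : Type u} [AddCommGroup H] [Module R H]
    [Module.Finite R H] [Nontrivial H] [AddCommGroup M] [Module R M]
    (hM : ∀ r ∈ maximalIdeal R, ∀ z : M, r • z = 0) {z : M} (hz : z ≠ 0) :
    ∃ ψ : H →ₗ[R] M, ψ ≠ 0 := by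
  let N : Submodule R H := maximalIdeal R • (⊤ : Submodule R H)
  have hN : N ≠ ⊤ := fun h => top_ne_bot
    (Submodule.eq_bot_of_eq_ideal_smul_of_le_jacobson_annihilator (I := maximalIdeal R)
      (Module.Finite.fg_top (R := R) (M := H)) h.symm (IsLocalRing.maximalIdeal_le_jacobson _))
  obtain ⟨h, -, hh⟩ := SetLike.exists_of_lt hN.lt_top
  letI : Field (R ⧸ maximalIdeal R) := Ideal.Quotient.field _
  have hne : (Submodule.Quotient.mk h : H ⧸ N) ≠ 0 := fun e => hh ((Submodule.Quotient.mk_eq_zero N).1 e)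
  obtain ⟨f, hf⟩ : ∃ f : Module.Dual (R ⧸ maximalIdeal R) (H ⧸ N), f (Submodule.Quotient.mk h) ≠ 0 :=
    Module.Projective.exists_dual_ne_zero _ hne
  let e : (R ⧸ maximalIdeal R) →ₗ[R] M :=
    (maximalIdeal R).liftQ (LinearMap.toSpanSingleton R M z) (fun r hr => hM r hr z)
  refine ⟨(e ∘ₗ f.restrictScalars R) ∘ₗ N.mkQ, fun h0 => hz ?_⟩
  have h1 : e (f (Submodule.Quotient.mk h)) = 0 := LinearMap.congr_fun h0 h
  obtain ⟨r, hr⟩ := Ideal.Quotient.mk_surjective (f (Submodule.Quotient.mk h))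
  rw [← hr] at h1 hf
  change r • z = 0 at h1
  have hru : IsUnit r := by
    by_contra hc
    exact hf (Ideal.Quotient.eq_zero_iff_mem.2 hc)
  exact hru.smul_eq_zero.1 h1

end Groth.Agent.DPtSky
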