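import Groth.Agent.DPtSky.Basic
import Groth.Agent.DPtSky.LocalHom
import Groth.Agent.Recoll.Derived
import Groth.Agent.WayOut.Basic
import Groth.Agent.EssConstD.Basic
import Groth.Agent.RegDual.Scheme
import Groth.Prelude.Def_CohB1
import Mathlib

/-!
Morphisms from a bounded above coherent complex to a shifted point sheaf.
-/

set_option autoImplicit false
set_option linter.style.haveILetI false
set_option backward.isDefEq.respectTransparency false
set_option backward.isDefEq.respectTransparency.types false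

universe u

open CategoryTheory CategoryTheory.Limits AlgebraicGeometry DerivedCategory

attribute [local instance] HasDerivedCategory.standard

namespace Groth.Agent.DPtSky

variable {X : Scheme.{u}} (x : X)

instance isIso_counit : IsIso (Groth.Agent.KFlat.skyAdjunction x).counit := by
  haveI : ∀ M, IsIso ((Groth.Agent.KFlat.skyAdjunction x).counit.app M) := fun M => by
    have e : (Groth.Agent.KFlat.skyAdjunction x).counit.app M = (Groth.Agent.KFlat.skyStalkIso x M).hom := by
      change (DerSch.stalkFunctor X x).map (𝟙 _) ≫ _ = _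
      rw [CategoryTheory.Functor.map_id, Category.id_comp]
      rfl
    rw [e]; infer_instance
  exact NatIso.isIso_of_isIso_app _

theorem stalks_vanish_iff [IsLocallyNoetherian X] (_hx : IsClosed ({x} : Set X)) (K : DCoh.D X)
    (hK : DCoh.IsCohD K) (c : ℤ) [DerivedCategory.IsLE K c] (b : ℤ) :
    (∀ i : ℤ, b < i → x ∉ CohB1.support (DCoh.HD K i)) ↔
      ∀ i : ℤ, b < i → ∀ φ : K ⟶ (shiftFunctor (DCoh.D X) (-i)).obj (DCoh.inD X (ptSheaf x)), φ = 0 := by
  let L := DerSch.stalkFunctor X x
  let S := Groth.Agent.KFlat.sky (X := X) x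
  haveI : L.Additive := Functor.additive_of_preserves_binary_products L
  let A := Groth.Agent.Recoll.derivedAdj (Groth.Agent.KFlat.skyAdjunction x)
  let M := L.obj (ptSheaf x)
  haveI := isIso_unit x
  -- the shifted point sheaf as the image of a single module
  let e : ∀ i : ℤ, (shiftFunctor (DCoh.D X) (-i)).obj (DCoh.inD X (ptSheaf x)) ≅
      S.mapDerivedCategory.obj ((singleFunctor _ i).obj M) := fun i =>
    (((singleFunctors X.Modules).shiftIso (-i) i 0 (by lia)).app (ptSheaf x)) ≪≫
      (singleFunctor _ i).mapIso (asIso ((Groth.Agent.KFlat.skyAdjunction x).unit.app (ptSheaf x))) ≪≫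
        (S.mapDerivedCategorySingleFunctor i).symm.app M
  let Φ : ∀ i : ℤ, (K ⟶ (shiftFunctor (DCoh.D X) (-i)).obj (DCoh.inD X (ptSheaf x))) ≃
      (L.mapDerivedCategory.obj K ⟶ (singleFunctor _ i).obj M) := fun i =>
    (Iso.homToEquiv (e i)).trans (A.homEquiv K _).symm
  let P := L.mapDerivedCategory.obj K
  have hH : ∀ i : ℤ, IsZero ((homologyFunctor _ i).obj P) ↔ x ∉ CohB1.support (DCoh.HD K i) := by
    intro i
    refine (Iso.isZero_iff (Groth.Agent.WayOut.mapDerivedHomologyIso L K i)).trans ?_
    change _ ↔ ¬¬ Subsingleton _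
    rw [not_not, ModuleCat.isZero_iff_subsingleton]
    exact Iff.rfl
  haveI hPc : P.IsLE c := Groth.Agent.WayOut.isLE_mapDerived L K c inferInstance
  constructor
  · intro h i hi φ
    haveI : P.IsLE b := (isLE_iff P b).2 fun j hj => (hH j).2 (h j hj)
    apply (Φ i).injective
    exact (TStructure.t.zero (Φ i φ) b i hi).trans (TStructure.t.zero (Φ i 0) b i hi).symm
  · intro h i hi
    by_contra hne
    -- a maximal degree with nonzero stalk
    obtain ⟨m, hm, hmax⟩ := Int.exists_greatest_of_bdd (P := fun j : ℤ => b < j ∧ ¬ IsZero ((homologyFunctor _ j).obj P))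
      ⟨c, fun j hj => by
        by_contra hc
        exact hj.2 (isZero_of_isLE P c j (by lia))⟩ ⟨i, hi, fun hz => (hH i).1 hz hne⟩
    haveI : P.IsLE m := (isLE_iff P m).2 fun j hj => by
      by_contra hz
      have := hmax j ⟨by lia, hz⟩
      lia
    let T := (TStructure.t.truncGE m).obj P
    haveI : T.IsLE m := inferInstanceAs (TStructure.t.IsLE ((TStructure.t.truncGE m).obj P) m)
    haveI : T.IsGE m := inferInstanceAs (TStructure.t.IsGE ((TStructure.t.truncGE m).obj P) m)
    obtain ⟨Y, ⟨η⟩⟩ := exists_iso_singleFunctor_obj_of_isGE_of_isLE T m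
    haveI := Groth.Agent.EssConstD.isIso_map_truncGEπ P m m le_rfl
    let eY : Y ≅ L.obj (DCoh.HD K m) :=
      ((singleFunctorCompHomologyFunctorIso _ m).app Y).symm ≪≫ (homologyFunctor _ m).mapIso η.symm ≪≫
        (asIso ((homologyFunctor _ m).map ((TStructure.t.truncGEπ m).app P))).symm ≪≫
        Groth.Agent.WayOut.mapDerivedHomologyIso L K m
    haveI := Groth.Agent.RegDual.finite_stalk (hK m) x
    haveI : Module.Finite (X.presheaf.stalk x) Y :=
      Module.Finite.equiv (M := (DCoh.HD K m).presheaf.stalk x) eY.toLinearEquiv.symm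
    haveI : Nontrivial Y := by
      by_contra hnt
      rw [not_nontrivial_iff_subsingleton] at hnt
      exact hm.2 (((ModuleCat.isZero_iff_subsingleton (M := Y)).2 hnt).of_iso
        ((Groth.Agent.WayOut.mapDerivedHomologyIso L K m) ≪≫ eY.symm))
    obtain ⟨z, hz⟩ := exists_ne_zero x
    obtain ⟨ψ, hψ⟩ := exists_hom_ne_zero (H := Y) (M := M) (fun r hr w => smul_eq_zero_of_mem x hr w) hz
    let g : P ⟶ (singleFunctor _ m).obj M :=
      (TStructure.t.truncGEπ m).app P ≫ η.hom ≫ (singleFunctor _ m).map (ModuleCat.ofHom ψ)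
    have hg : g = 0 := by
      have h0 : (Φ m).symm g = 0 := h m hm.1 _
      have h1 : (Φ m) 0 = 0 :=
        (Φ m).symm_apply_eq.1 (h m hm.1 ((Φ m).symm 0)) |>.symm
      rw [← (Φ m).apply_symm_apply g, h0, h1]
    have h2 : η.hom ≫ (singleFunctor _ m).map (ModuleCat.ofHom ψ) = 0 :=
      TStructure.t.from_truncGE_obj_ext (n := m) (hg.trans comp_zero.symm)
    have h3 : (singleFunctor _ m).map (ModuleCat.ofHom ψ) = 0 := by
      rwa [← cancel_epi η.hom, comp_zero]
    have h4 : ModuleCat.ofHom ψ = 0 := (singleFunctor _ m).map_injective (h3.trans (Functor.map_zero _ _ _).symm)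
    exact hψ (congrArg ModuleCat.Hom.hom h4)

end Groth.Agent.DPtSky
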